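import Mathlib
import Groth.Prelude.Def_CechOX
import Groth.Agent.Lib.Helper23.CechQC
/-!
# Helper23 — CechRes.QC2: the results of `CechQC` for schemes with affine diagonal
-/

set_option autoImplicit false
universe u
open CategoryTheory CategoryTheory.Limits AlgebraicGeometry Opposite TopologicalSpace

namespace Groth.Agent.Lib.Helper23.CechRes.QC2

open Groth.Agent.Lib.Helper23.CechQC

variable {X : Scheme.{u}}

/-- a morphism from an affine scheme to a scheme with affine diagonal is affine -/
theorem isAffineHom_of_isAffine_of_affineDiagonal {W S : Scheme.{u}} [IsAffine W]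
    [IsAffineHom (pullback.diagonal (terminal.from S))] (g : W ⟶ S) : IsAffineHom g := by
  haveI hr : MorphismProperty.RespectsIso @IsAffineHom.{u} :=
    MorphismProperty.IsStableUnderBaseChange.respectsIso
  haveI h0 : (MorphismProperty.diagonal @IsAffineHom.{u}).IsStableUnderBaseChange :=
    MorphismProperty.IsStableUnderBaseChange.diagonal
  haveI h : MorphismProperty.HasOfPostcompProperty (@IsAffineHom.{u})
      (MorphismProperty.diagonal @IsAffineHom.{u}) :=
    MorphismProperty.hasOfPostcompProperty_iff_le_diagonal.mpr le_rfl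
  have h1 : IsAffineHom (g ≫ terminal.from S) := by
    rw [terminal.comp_from]; infer_instance
  exact MorphismProperty.of_postcomp (W := @IsAffineHom.{u})
    (W' := MorphismProperty.diagonal @IsAffineHom.{u}) g (terminal.from S) ‹_› h1

theorem isAffineOpen_iInf_fin [IsAffineHom (pullback.diagonal (terminal.from X))] (n : ℕ)
    (V : Fin (n + 1) → X.Opens) (hV : ∀ a, IsAffineOpen (V a)) : IsAffineOpen (⨅ a, V a) :=
  IsAffineOpen.iInf hV

theorem isAffineHom_ι_of_isAffineOpen [IsAffineHom (pullback.diagonal (terminal.from X))]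
    {W : X.Opens} (hW : IsAffineOpen W) : IsAffineHom W.ι := by
  haveI : IsAffine (W : Scheme.{u}) := hW
  exact isAffineHom_of_isAffine_of_affineDiagonal W.ι

theorem isQCoh_pushRestr [IsAffineHom (pullback.diagonal (terminal.from X))] {W : X.Opens}
    (hW : IsAffineOpen W) (F : X.Modules)
    [Coh.IsQCoh F] : Coh.IsQCoh ((CechOX.pushRestr W).obj F) := by
  haveI := isAffineHom_ι_of_isAffineOpen hW
  have : F.IsQuasicoherent := ‹_›
  have : ((Scheme.Modules.restrictFunctor W.ι).obj F).IsQuasicoherent := inferInstance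
  exact Groth.Agent.Lib.Helper28.QCohLoc.isQuasicoherent_pushforward W.ι _

variable {ι : Type u} (𝒰 : ι → X.Opens) (F : X.Modules) (p : ℕ)

theorem isQCoh_cechSh_X [IsAffineHom (pullback.diagonal (terminal.from X))] [Finite ι]
    (h𝒰 : ∀ i, IsAffineOpen (𝒰 i)) [Coh.IsQCoh F] :
    Coh.IsQCoh (((CechOX.cechSh 𝒰).obj F).X p) := by
  unfold CechOX.cechSh cechComplexFunctor
  simp only [Functor.comp_obj, FormalCoproduct.cochainComplexFunctor_obj_X]
  refine isQCoh_pi_of_finite (show Finite (Fin (p + 1) → ι) from inferInstance) _ (fun i => ?_)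
  show Coh.IsQCoh ((CechOX.pushRestr (∏ᶜ (𝒰 ∘ i))).obj F)
  refine isQCoh_pushRestr ?_ F
  rw [piObj_eq_iInf]
  exact isAffineOpen_iInf_fin p _ (fun a => h𝒰 (i a))

end Groth.Agent.Lib.Helper23.CechRes.QC2
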