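import Mathlib
import Groth.Prelude.Def_CechOX
import Groth.Prelude.Def_DCoh2
import Groth.Agent.Lib.Helper23.CechRes.QC2
import Groth.Agent.Lib.Helper26.PushComp
import Groth.Agent.Lib.Helper26.FDim2
import Groth.Agent.Lib.Helper8.SheafModGroth
/-!
# Helper23 — CechRes.Acyc: terms of the Čech complex of sheaves are `f_*`-acyclic
-/

set_option autoImplicit false
set_option maxHeartbeats 400000
set_option linter.style.haveILetI false
universe w w' v v' u u'
open CategoryTheory CategoryTheory.Limits AlgebraicGeometry Opposite TopologicalSpace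

namespace Groth.Agent.Lib.Helper23.CechRes.Acyc

open Groth.Agent.Lib.Helper26.FDim2

section General

variable {A : Type u} [Category.{v} A] [Abelian A] [EnoughInjectives A]
  {B : Type u'} [Category.{v'} B] [Abelian B] (F : A ⥤ B) [F.Additive]

lemma dimLE_pi {J : Type w} (hJ : Finite J) (G : J → A) [HasProduct G] {k : ℕ}
    (h : ∀ j, DimLE F k (G j)) : DimLE F k (∏ᶜ G) := by
  intro i hi
  haveI : PreservesLimit (Discrete.functor G) (F.rightDerived i) := by
    haveI : PreservesFiniteProducts (F.rightDerived i) := inferInstance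
    haveI := Fintype.ofFinite J
    infer_instance
  have e := PreservesProduct.iso (F.rightDerived i) G
  refine IsZero.of_iso ?_ e
  rw [IsZero.iff_id_eq_zero]
  apply Pi.hom_ext
  intro j
  exact (h j i hi).eq_of_tgt _ _

end General

variable {X S : Scheme.{u}} (f : X ⟶ S)

theorem dimLE_pushRestr [IsAffineHom (pullback.diagonal (terminal.from X))]
    [IsAffineHom (pullback.diagonal (terminal.from S))] {W : X.Opens}
    (hW : IsAffineOpen W) (F : X.Modules) [Coh.IsQCoh F] :
    haveI : EnoughInjectives X.Modules :=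
      Groth.Agent.Lib.Helper8.SheafModGroth.enoughInjectives _ X.ringCatSheaf
    DimLE (Scheme.Modules.pushforward f) 0 ((CechOX.pushRestr W).obj F) := by
  haveI : EnoughInjectives X.Modules :=
    Groth.Agent.Lib.Helper8.SheafModGroth.enoughInjectives _ X.ringCatSheaf
  haveI : EnoughInjectives (W : Scheme.{u}).Modules :=
    Groth.Agent.Lib.Helper8.SheafModGroth.enoughInjectives _ (W : Scheme.{u}).ringCatSheaf
  haveI : IsAffine (W : Scheme.{u}) := hW
  haveI := QC2.isAffineHom_ι_of_isAffineOpen hW
  haveI : IsAffineHom (W.ι ≫ f) := QC2.isAffineHom_of_isAffine_of_affineDiagonal _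
  have : F.IsQuasicoherent := ‹_›
  haveI : Coh.IsQCoh ((Scheme.Modules.restrictFunctor W.ι).obj F) :=
    (inferInstance : ((Scheme.Modules.restrictFunctor W.ι).obj F).IsQuasicoherent)
  intro q hq
  obtain ⟨e⟩ := Groth.Agent.Lib.Helper26.PushComp.nonempty_Rpush_comp_iso W.ι f
    ((Scheme.Modules.restrictFunctor W.ι).obj F) q
  exact IsZero.of_iso (Groth.Agent.Lib.Helper26.PushComp.isZero_Rpush_of_isAffineHom (W.ι ≫ f)
    ((Scheme.Modules.restrictFunctor W.ι).obj F) q hq) e

variable {ι : Type u} (𝒰 : ι → X.Opens) (F : X.Modules) (p : ℕ)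

theorem dimLE_cechSh_X [IsAffineHom (pullback.diagonal (terminal.from X))]
    [IsAffineHom (pullback.diagonal (terminal.from S))] [Finite ι]
    (h𝒰 : ∀ i, IsAffineOpen (𝒰 i)) [Coh.IsQCoh F] :
    haveI : EnoughInjectives X.Modules :=
      Groth.Agent.Lib.Helper8.SheafModGroth.enoughInjectives _ X.ringCatSheaf
    DimLE (Scheme.Modules.pushforward f) 0 (((CechOX.cechSh 𝒰).obj F).X p) := by
  haveI : EnoughInjectives X.Modules :=
    Groth.Agent.Lib.Helper8.SheafModGroth.enoughInjectives _ X.ringCatSheaf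
  unfold CechOX.cechSh cechComplexFunctor
  simp only [Functor.comp_obj, FormalCoproduct.cochainComplexFunctor_obj_X]
  refine dimLE_pi (Scheme.Modules.pushforward f)
    (show Finite (Fin (p + 1) → ι) from inferInstance) _ (fun i => ?_)
  show DimLE (Scheme.Modules.pushforward f) 0 ((CechOX.pushRestr (∏ᶜ (𝒰 ∘ i))).obj F)
  refine dimLE_pushRestr f ?_ F
  rw [Groth.Agent.Lib.Helper23.CechQC.piObj_eq_iInf]
  exact QC2.isAffineOpen_iInf_fin p _ (fun a => h𝒰 (i a))

end Groth.Agent.Lib.Helper23.CechRes.Acyc
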