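import Groth.Agent.Lib.Helper23.CechRes.Elem

/-!
# Helper23 — CechRes.Contr: local contraction of the Čech complex of sheaves
-/

set_option autoImplicit false
universe u
open CategoryTheory CategoryTheory.Limits AlgebraicGeometry Opposite TopologicalSpace

namespace Groth.Agent.Lib.Helper23.CechRes

open Groth.Agent.Lib.Helper28.QCohLoc

variable {X : Scheme.{u}} {ι : Type u} (𝒰 : ι → X.Opens) (F : X.Modules)

/-- restricted component -/
noncomputable def rc {n : ℕ} {V : X.Opens} (s : Γ((K 𝒰 F).X n, V)) (x : Fin (n + 1) → ι)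
    (T' : X.Opens) (hT : T' ≤ I (W 𝒰 x) V) : Γ(F, T') :=
  res F hT (cmp 𝒰 F s x)

theorem rc_congr {n : ℕ} {V : X.Opens} (s : Γ((K 𝒰 F).X n, V)) {x x' : Fin (n + 1) → ι} (h : x = x')
    (T' : X.Opens) (hT : T' ≤ I (W 𝒰 x) V) (hT' : T' ≤ I (W 𝒰 x') V) :
    rc 𝒰 F s x T' hT = rc 𝒰 F s x' T' hT' := by
  subst h
  rfl

theorem rc_self {n : ℕ} {V : X.Opens} (s : Γ((K 𝒰 F).X n, V)) (x : Fin (n + 1) → ι) :
    rc 𝒰 F s x (I (W 𝒰 x) V) le_rfl = cmp 𝒰 F s x :=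
  res_self F _

theorem res_rc {n : ℕ} {V : X.Opens} (s : Γ((K 𝒰 F).X n, V)) (x : Fin (n + 1) → ι)
    (T' T'' : X.Opens) (hT : T' ≤ I (W 𝒰 x) V) (h : T'' ≤ T') :
    res F h (rc 𝒰 F s x T' hT) = rc 𝒰 F s x T'' (h.trans hT) :=
  res_res F hT h _

theorem res_sum_zsmul {U V : X.Opens} (h : V ≤ U) {A : Type*} (t : Finset A) (c : A → ℤ)
    (f : A → Γ(F, U)) : res F h (∑ i ∈ t, c i • f i) = ∑ i ∈ t, c i • res F h (f i) := by
  unfold res
  rw [map_sum]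
  refine Finset.sum_congr rfl fun i _ => ?_
  rw [map_zsmul]

theorem rc_d {n : ℕ} {V : X.Opens} (s : Γ((K 𝒰 F).X n, V)) (y : Fin (n + 2) → ι)
    (T' : X.Opens) (hT : T' ≤ I (W 𝒰 y) V) :
    rc 𝒰 F (((K 𝒰 F).d n (n + 1)).app V s) y T' hT =
      ∑ i : Fin (n + 2), (-1 : ℤ) ^ (i : ℕ) •
        rc 𝒰 F s (y ∘ Fin.succAbove i) T'
          (hT.trans (CechOX.image_preimage_mono (W_face_le 𝒰 y i) V)) := by
  unfold rc
  rw [cmp_d, res_sum_zsmul]
  refine Finset.sum_congr rfl fun i _ => ?_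
  rw [res_res]

theorem cmp_zero {n : ℕ} {V : X.Opens} (x : Fin (n + 1) → ι) :
    cmp 𝒰 F (0 : Γ((K 𝒰 F).X n, V)) x = 0 :=
  map_zero ((Pi.π (fun x : Fin (n + 1) → ι => T 𝒰 F x) x).app V).hom

theorem rc_zero {n : ℕ} {V : X.Opens} (x : Fin (n + 1) → ι) (T' : X.Opens)
    (hT : T' ≤ I (W 𝒰 x) V) : rc 𝒰 F (0 : Γ((K 𝒰 F).X n, V)) x T' hT = 0 := by
  unfold rc
  rw [cmp_zero]
  exact map_zero _

theorem cons_comp_succAbove_zero {m : ℕ} (j : ι) (y : Fin (m + 1) → ι) :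
    (Fin.cons j y : Fin (m + 2) → ι) ∘ Fin.succAbove 0 = y := by
  funext a
  simp [Fin.succAbove_zero]

theorem cons_comp_succAbove_succ {m : ℕ} (j : ι) (y : Fin (m + 1) → ι) (i : Fin (m + 1)) :
    (Fin.cons j y : Fin (m + 2) → ι) ∘ Fin.succAbove i.succ = Fin.cons j (y ∘ Fin.succAbove i) := by
  funext a
  refine Fin.cases ?_ (fun b => ?_) a
  · simp
  · simp

variable {𝒰}

theorem le_I_cons {n : ℕ} {j : ι} {V : X.Opens} (hV : V ≤ 𝒰 j) (x : Fin (n + 1) → ι)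
    {T' : X.Opens} (hT : T' ≤ I (W 𝒰 x) V) :
    T' ≤ I (W 𝒰 (Fin.cons j x : Fin (n + 2) → ι)) V := by
  refine le_I (le_W 𝒰 _ _ (fun a => ?_)) (hT.trans (I_le_right _ _))
  refine Fin.cases ?_ (fun b => ?_) a
  · rw [Fin.cons_zero]
    exact (hT.trans (I_le_right _ _)).trans hV
  · rw [Fin.cons_succ]
    exact (hT.trans (I_le_left _ _)).trans (W_le 𝒰 x b)

theorem le_I_cons_face {m : ℕ} {j : ι} {V : X.Opens} (hV : V ≤ 𝒰 j) (y : Fin (m + 1) → ι)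
    (i : Fin (m + 1)) {T' : X.Opens} (hT : T' ≤ I (W 𝒰 y) V) :
    T' ≤ I (W 𝒰 (Fin.cons j (y ∘ Fin.succAbove i) : Fin (m + 1) → ι)) V := by
  refine le_I (le_W 𝒰 _ _ (fun a => ?_)) (hT.trans (I_le_right _ _))
  refine Fin.cases ?_ (fun b => ?_) a
  · rw [Fin.cons_zero]
    exact (hT.trans (I_le_right _ _)).trans hV
  · rw [Fin.cons_succ]
    exact (hT.trans (I_le_left _ _)).trans (W_le 𝒰 y _)

/-- the key identity: on an open inside a member of the family, a cocycle is determined by its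
components starting with that member -/
theorem rc_eq_of_d_eq_zero {m : ℕ} {j : ι} {V : X.Opens} (hV : V ≤ 𝒰 j)
    (α : Γ((K 𝒰 F).X m, V)) (hα : ((K 𝒰 F).d m (m + 1)).app V α = 0)
    (y : Fin (m + 1) → ι) (T' : X.Opens) (hT : T' ≤ I (W 𝒰 y) V) :
    rc 𝒰 F α y T' hT = ∑ i : Fin (m + 1), (-1 : ℤ) ^ (i : ℕ) •
      rc 𝒰 F α (Fin.cons j (y ∘ Fin.succAbove i)) T' (le_I_cons_face hV y i hT) := by
  have h0 := rc_d 𝒰 F α (Fin.cons j y) T' (le_I_cons hV y hT)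
  rw [hα, rc_zero, Fin.sum_univ_succ] at h0
  have h1 : rc 𝒰 F α ((Fin.cons j y : Fin (m + 2) → ι) ∘ Fin.succAbove 0) T'
      ((le_I_cons hV y hT).trans (CechOX.image_preimage_mono (W_face_le 𝒰 (Fin.cons j y) 0) V)) =
      rc 𝒰 F α y T' hT := rc_congr 𝒰 F α (cons_comp_succAbove_zero j y) T' _ _
  have h2 : ∀ i : Fin (m + 1),
      rc 𝒰 F α ((Fin.cons j y : Fin (m + 2) → ι) ∘ Fin.succAbove i.succ) T'
        ((le_I_cons hV y hT).trans
          (CechOX.image_preimage_mono (W_face_le 𝒰 (Fin.cons j y) i.succ) V)) =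
      rc 𝒰 F α (Fin.cons j (y ∘ Fin.succAbove i)) T' (le_I_cons_face hV y i hT) :=
    fun i => rc_congr 𝒰 F α (cons_comp_succAbove_succ j y i) T' _ _
  rw [h1] at h0
  simp only [h2] at h0
  simp only [Fin.val_zero, pow_zero, one_smul, Fin.val_succ, pow_succ, mul_neg, mul_one,
    neg_smul, Finset.sum_neg_distrib] at h0
  exact (sub_eq_zero.1 (by rw [sub_eq_add_neg]; exact h0.symm))

end Groth.Agent.Lib.Helper23.CechRes
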