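import Mathlib
import Groth.Prelude.Def_CechOX
import Groth.Agent.Lib.Helper8.CechContr
import Groth.Agent.Lib.Helper16.Fl1
import Groth.Agent.Lib.Helper28.ModExact

/-!
# Helper23 — CechRes.Elem: sections of the Čech complex of sheaves, elementwise
-/

set_option autoImplicit false
universe u
open CategoryTheory CategoryTheory.Limits AlgebraicGeometry Opposite TopologicalSpace

namespace Groth.Agent.Lib.Helper23.CechRes

open Groth.Agent.Lib.Helper28.QCohLoc Groth.Agent.Lib.Helper16.Stk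

variable {X : Scheme.{u}}

section Prod

variable {J : Type u} (G : J → X.Modules) [HasProduct G]

/-- component of a section of a product -/
noncomputable def cmpS {V : X.Opens} (s : Γ(∏ᶜ G, V)) (j : J) : Γ(G j, V) := (Pi.π G j).app V s

theorem cmpS_ext {V : X.Opens} (s s' : Γ(∏ᶜ G, V)) (h : ∀ j, cmpS G s j = cmpS G s' j) : s = s' := by
  have key : (jSEquiv V (∏ᶜ G)).symm s = (jSEquiv V (∏ᶜ G)).symm s' := by
    apply Pi.hom_ext
    intro j
    apply (jSEquiv V (G j)).injective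
    rw [jSEquiv_comp, jSEquiv_comp, Equiv.apply_symm_apply, Equiv.apply_symm_apply]
    exact h j
  exact (jSEquiv V (∏ᶜ G)).symm.injective key

theorem exists_cmpS {V : X.Opens} (f : ∀ j, Γ(G j, V)) : ∃ s : Γ(∏ᶜ G, V), ∀ j, cmpS G s j = f j := by
  refine ⟨jSEquiv V (∏ᶜ G) (Pi.lift fun j => (jSEquiv V (G j)).symm (f j)), fun j => ?_⟩
  have h := jSEquiv_comp V (Pi.lift fun j => (jSEquiv V (G j)).symm (f j)) (Pi.π G j)
  rw [Pi.lift_π, Equiv.apply_symm_apply] at h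
  exact h.symm

theorem cmpS_res {V V' : X.Opens} (h : V' ≤ V) (s : Γ(∏ᶜ G, V)) (j : J) :
    cmpS G (res (∏ᶜ G) h s) j = res (G j) h (cmpS G s j) :=
  app_res (Pi.π G j) h s

end Prod

section Cech

variable {ι : Type u} (𝒰 : ι → X.Opens) (F : X.Modules)

/-- the intersection indexed by a tuple -/
noncomputable abbrev W {n : ℕ} (x : Fin (n + 1) → ι) : X.Opens := ∏ᶜ (𝒰 ∘ x)

/-- `V ∩ W` in the form appearing in sections of `(j_W)_*(F|_W)` -/
noncomputable abbrev I (W V : X.Opens) : X.Opens := W.ι ''ᵁ (W.ι ⁻¹ᵁ V)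

theorem I_eq (W V : X.Opens) : I W V = W ⊓ V := by
  unfold I
  rw [Scheme.Hom.image_preimage_eq_opensRange_inf, Scheme.Opens.opensRange_ι]

theorem W_le {n : ℕ} (x : Fin (n + 1) → ι) (a : Fin (n + 1)) : W 𝒰 x ≤ 𝒰 (x a) :=
  leOfHom (Pi.π (𝒰 ∘ x) a)

theorem le_W {n : ℕ} (x : Fin (n + 1) → ι) (T : X.Opens) (h : ∀ a, T ≤ 𝒰 (x a)) : T ≤ W 𝒰 x :=
  leOfHom (Pi.lift (f := 𝒰 ∘ x) fun a => homOfLE (h a))

theorem le_I {W V T : X.Opens} (h₁ : T ≤ W) (h₂ : T ≤ V) : T ≤ I W V := by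
  rw [I_eq]
  exact le_inf h₁ h₂

theorem I_le_left (W V : X.Opens) : I W V ≤ W := by
  rw [I_eq]
  exact inf_le_left

theorem I_le_right (W V : X.Opens) : I W V ≤ V := by
  rw [I_eq]
  exact inf_le_right

/-- the Čech complex of sheaves -/
noncomputable abbrev K : CochainComplex X.Modules ℕ := (CechOX.cechSh 𝒰).obj F

/-- the factors of the terms -/
noncomputable abbrev T {n : ℕ} (x : Fin (n + 1) → ι) : X.Modules := (CechOX.pushRestr (W 𝒰 x)).obj F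

/-- the components of a Čech cochain of sections -/
noncomputable def cmp {n : ℕ} {V : X.Opens} (s : Γ((K 𝒰 F).X n, V)) (x : Fin (n + 1) → ι) :
    Γ(F, I (W 𝒰 x) V) :=
  cmpS (fun x : Fin (n + 1) → ι => T 𝒰 F x) s x

theorem cmp_ext {n : ℕ} {V : X.Opens} (s s' : Γ((K 𝒰 F).X n, V))
    (h : ∀ x, cmp 𝒰 F s x = cmp 𝒰 F s' x) : s = s' :=
  cmpS_ext (fun x : Fin (n + 1) → ι => T 𝒰 F x) s s' h

theorem exists_cmp {n : ℕ} {V : X.Opens} (f : ∀ x : Fin (n + 1) → ι, Γ(F, I (W 𝒰 x) V)) :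
    ∃ s : Γ((K 𝒰 F).X n, V), ∀ x, cmp 𝒰 F s x = f x :=
  exists_cmpS (fun x : Fin (n + 1) → ι => T 𝒰 F x) f

theorem W_face_le {n : ℕ} (y : Fin (n + 2) → ι) (i : Fin (n + 2)) :
    W 𝒰 y ≤ W 𝒰 (y ∘ Fin.succAbove i) :=
  le_W 𝒰 _ _ fun a => W_le 𝒰 y (Fin.succAbove i a)

/-- evaluation of morphisms at a section, as an additive map -/
noncomputable def appAt {M N : X.Modules} (V : X.Opens) (s : Γ(M, V)) : (M ⟶ N) →+ Γ(N, V) where
  toFun φ := φ.app V s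
  map_zero' := rfl
  map_add' _ _ := rfl

theorem sum_zsmul_app {M N : X.Modules} (V : X.Opens) {A : Type*} (t : Finset A) (c : A → ℤ)
    (φ : A → (M ⟶ N)) (s : Γ(M, V)) :
    (∑ i ∈ t, c i • φ i).app V s = ∑ i ∈ t, c i • (φ i).app V s := by
  have h := map_sum (appAt (N := N) V s) (fun i => c i • φ i) t
  simp only [map_zsmul] at h
  exact h

theorem sum_zsmul_comp {C : Type*} [Category C] [Preadditive C] {P Q R : C} {A : Type*}
    (t : Finset A) (c : A → ℤ) (δ : A → (P ⟶ Q)) (π : Q ⟶ R) (ψ : A → (P ⟶ R))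
    (h : ∀ i, δ i ≫ π = ψ i) : (∑ i ∈ t, c i • δ i) ≫ π = ∑ i ∈ t, c i • ψ i := by
  rw [Preadditive.sum_comp]
  refine Finset.sum_congr rfl fun i _ => ?_
  rw [Preadditive.zsmul_comp, h]

open Groth.Agent.Lib.Helper8.CechContr in
/-- the components of the differential -/
theorem cmp_d {n : ℕ} {V : X.Opens} (s : Γ((K 𝒰 F).X n, V)) (y : Fin (n + 2) → ι) :
    cmp 𝒰 F (((K 𝒰 F).d n (n + 1)).app V s) y =
      ∑ i : Fin (n + 2), (-1 : ℤ) ^ (i : ℕ) •
        res F (CechOX.image_preimage_mono (W_face_le 𝒰 y i) V) (cmp 𝒰 F s (y ∘ Fin.succAbove i)) := by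
  have hd : (K 𝒰 F).d n (n + 1) = ∑ i : Fin (n + 2), (-1 : ℤ) ^ (i : ℕ) •
      ((FormalCoproduct.cosimplicialObjectFunctor (FormalCoproduct.mk _ 𝒰).cech).obj
        (CechOX.pushRestrFam.flip.obj F)).δ i := obj_d _ n
  have h2 : ∀ i : Fin (n + 2),
      ((FormalCoproduct.cosimplicialObjectFunctor (FormalCoproduct.mk _ 𝒰).cech).obj
        (CechOX.pushRestrFam.flip.obj F)).δ i ≫
      Pi.π (fun x : Fin (n + 2) → ι => T 𝒰 F x) y =
      Pi.π (fun x : Fin (n + 1) → ι => T 𝒰 F x) (y ∘ Fin.succAbove i) ≫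
        CechOX.pushRestrMapApp (W_face_le 𝒰 y i) F := fun i => Pi.lift_π _ _
  have h3 : (K 𝒰 F).d n (n + 1) ≫ Pi.π (fun x : Fin (n + 2) → ι => T 𝒰 F x) y =
      ∑ i : Fin (n + 2), (-1 : ℤ) ^ (i : ℕ) •
        (Pi.π (fun x : Fin (n + 1) → ι => T 𝒰 F x) (y ∘ Fin.succAbove i) ≫
          CechOX.pushRestrMapApp (W_face_le 𝒰 y i) F) :=
    (congrArg (fun φ => φ ≫ Pi.π (fun x : Fin (n + 2) → ι => T 𝒰 F x) y) hd).trans
      (sum_zsmul_comp _ _ _ _ _ h2)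
  have h4 : cmp 𝒰 F (((K 𝒰 F).d n (n + 1)).app V s) y =
      ((K 𝒰 F).d n (n + 1) ≫ Pi.π (fun x : Fin (n + 2) → ι => T 𝒰 F x) y).app V s := rfl
  exact (h4.trans (congrArg (fun φ => Scheme.Modules.Hom.app φ V s) h3)).trans
    ((sum_zsmul_app V Finset.univ _ _ s).trans (Finset.sum_congr rfl fun i _ => rfl))

end Cech

end Groth.Agent.Lib.Helper23.CechRes
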