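import Groth.Agent.Lib.Helper23.CechRes.Contr

/-!
# Helper23 — CechRes.Main: the Čech complex of sheaves is a resolution
-/

set_option autoImplicit false
universe u
open CategoryTheory CategoryTheory.Limits AlgebraicGeometry Opposite TopologicalSpace

namespace Groth.Agent.Lib.Helper23.CechRes

open Groth.Agent.Lib.Helper28.QCohLoc

variable {X : Scheme.{u}} {ι : Type u} (𝒰 : ι → X.Opens) (F : X.Modules)

/-- on an open inside a member of the family, cocycles of positive degree are coboundaries -/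
theorem exists_primitive {p : ℕ} {j : ι} {V : X.Opens} (hV : V ≤ 𝒰 j)
    (α : Γ((K 𝒰 F).X (p + 1), V)) (hα : ((K 𝒰 F).d (p + 1) (p + 2)).app V α = 0) :
    ∃ β : Γ((K 𝒰 F).X p, V), ((K 𝒰 F).d p (p + 1)).app V β = α := by
  obtain ⟨β, hβ⟩ := exists_cmp 𝒰 F (n := p) (V := V) (fun x =>
    rc 𝒰 F α (Fin.cons j x) (I (W 𝒰 x) V) (le_I_cons hV x le_rfl))
  refine ⟨β, cmp_ext 𝒰 F _ _ fun y => ?_⟩
  rw [cmp_d, ← rc_self 𝒰 F α y, rc_eq_of_d_eq_zero F hV α hα y _ le_rfl]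
  refine Finset.sum_congr rfl fun i _ => ?_
  rw [hβ]
  congr 1
  exact res_rc 𝒰 F α _ _ _ _ _

theorem d_res {n : ℕ} {V V' : X.Opens} (h : V' ≤ V) (s : Γ((K 𝒰 F).X n, V)) :
    ((K 𝒰 F).d n (n + 1)).app V' (res ((K 𝒰 F).X n) h s) =
      res ((K 𝒰 F).X (n + 1)) h (((K 𝒰 F).d n (n + 1)).app V s) :=
  app_res _ h s

variable {𝒰}

theorem exists_mem_inf (h𝒰 : ⨆ i, 𝒰 i = ⊤) (V : X.Opens) (pt : X) (hpt : pt ∈ V) :
    ∃ j : ι, pt ∈ V ⊓ 𝒰 j := by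
  have : pt ∈ ⨆ i, 𝒰 i := by rw [h𝒰]; trivial
  obtain ⟨j, hj⟩ := Opens.mem_iSup.1 this
  exact ⟨j, hpt, hj⟩

theorem isZero_homology_succ (h𝒰 : ⨆ i, 𝒰 i = ⊤) (p : ℕ) :
    IsZero ((K 𝒰 F).homology (p + 1)) := by
  rw [← HomologicalComplex.exactAt_iff_isZero_homology,
    HomologicalComplex.exactAt_iff' (K 𝒰 F) p (p + 1) (p + 2) (by simp) (by simp)]
  refine exact_of_locally _ _ _ ?_
  intro V α hα pt hpt
  obtain ⟨j, hj⟩ := exists_mem_inf h𝒰 V pt hpt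
  refine ⟨V ⊓ 𝒰 j, inf_le_left, hj, ?_⟩
  refine exists_primitive 𝒰 F (inf_le_right : V ⊓ 𝒰 j ≤ 𝒰 j) _ ?_
  rw [d_res, hα]
  exact res_zero _ _

variable (𝒰)

/-- the components of the coaugmentation are restrictions -/
theorem cmp_aug {V : X.Opens} (a : Γ(F, V)) (x : Fin 1 → ι) :
    cmp 𝒰 F ((CechOX.cechShAug 𝒰 F).app V a) x = res F (I_le_right (W 𝒰 x) V) a := by
  have h1 : CechOX.cechShAug 𝒰 F ≫ Pi.π (fun x : Fin 1 → ι => T 𝒰 F x) x =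
      (Scheme.Modules.restrictAdjunction (W 𝒰 x).ι).unit.app F := Pi.lift_π _ _
  have h2 : cmp 𝒰 F ((CechOX.cechShAug 𝒰 F).app V a) x =
      (CechOX.cechShAug 𝒰 F ≫ Pi.π (fun x : Fin 1 → ι => T 𝒰 F x) x).app V a := rfl
  exact h2.trans (congrArg (fun φ => Scheme.Modules.Hom.app φ V a) h1)

theorem const_eq (j : ι) (y : Fin 1 → ι) (i : Fin 1) :
    (Fin.cons j (y ∘ Fin.succAbove i) : Fin 1 → ι) = fun _ => j := by
  funext a
  have : a = 0 := Fin.ext (by have := a.2; simp only [Fin.val_zero]; omega)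
  rw [this, Fin.cons_zero]

variable {𝒰}

theorem le_I_const {j : ι} {V : X.Opens} (hV : V ≤ 𝒰 j) : V ≤ I (W 𝒰 (fun _ : Fin 1 => j)) V :=
  le_I (le_W 𝒰 _ _ fun _ => hV) le_rfl

/-- on an open inside a member of the family, 0-cocycles come from sections of `F` -/
theorem exists_aug_eq {j : ι} {V : X.Opens} (hV : V ≤ 𝒰 j)
    (s : Γ((K 𝒰 F).X 0, V)) (hs : ((K 𝒰 F).d 0 1).app V s = 0) :
    ∃ a : Γ(F, V), (CechOX.cechShAug 𝒰 F).app V a = s := by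
  refine ⟨rc 𝒰 F s (fun _ => j) V (le_I_const hV), cmp_ext 𝒰 F _ _ fun y => ?_⟩
  rw [cmp_aug, res_rc, ← rc_self 𝒰 F s y, rc_eq_of_d_eq_zero F hV s hs y _ le_rfl,
    Fin.sum_univ_one]
  simp only [Fin.val_zero, pow_zero, one_smul]
  exact rc_congr 𝒰 F s (const_eq j y 0).symm _ _ _

theorem aug_d : CechOX.cechShAug 𝒰 F ≫ (K 𝒰 F).d 0 1 = 0 := by
  apply Scheme.Modules.hom_ext
  intro V
  ext a
  refine cmp_ext 𝒰 F _ _ fun y => ?_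
  have h : cmp 𝒰 F ((CechOX.cechShAug 𝒰 F ≫ (K 𝒰 F).d 0 1).app V a) y =
      cmp 𝒰 F (((K 𝒰 F).d 0 1).app V ((CechOX.cechShAug 𝒰 F).app V a)) y := rfl
  have h0 : cmp 𝒰 F ((0 : F ⟶ (K 𝒰 F).X 1).app V a) y = 0 := cmp_zero 𝒰 F y
  rw [h, h0, cmp_d, Fin.sum_univ_two, cmp_aug, cmp_aug, res_res, res_res]
  simp

theorem mono_aug (h𝒰 : ⨆ i, 𝒰 i = ⊤) : Mono (CechOX.cechShAug 𝒰 F) := by
  apply Groth.Agent.Lib.Helper28.QCohLoc.mono_of_injective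
  intro V
  rw [injective_iff_map_eq_zero]
  intro a ha
  refine eq_of_locally_eq F (fun j : ι => V ⊓ 𝒰 j) V (fun j => inf_le_left) ?_ a 0 fun j => ?_
  · intro pt hpt
    obtain ⟨j, hj⟩ := exists_mem_inf h𝒰 V pt hpt
    exact Opens.mem_iSup.2 ⟨j, hj⟩
  · rw [res_zero]
    have h1 := cmp_aug 𝒰 F a (fun _ => j)
    rw [ha, cmp_zero] at h1
    have h2 : V ⊓ 𝒰 j ≤ I (W 𝒰 (fun _ : Fin 1 => j)) V :=
      le_I (le_W 𝒰 _ _ fun _ => inf_le_right) inf_le_left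
    have h3 := congrArg (res F h2) h1
    rw [res_zero, res_res] at h3
    exact h3.symm

theorem exact_aug (h𝒰 : ⨆ i, 𝒰 i = ⊤) :
    (ShortComplex.mk (CechOX.cechShAug 𝒰 F) ((K 𝒰 F).d 0 1) (aug_d F)).Exact := by
  refine exact_of_locally _ _ _ ?_
  intro V s hs pt hpt
  obtain ⟨j, hj⟩ := exists_mem_inf h𝒰 V pt hpt
  refine ⟨V ⊓ 𝒰 j, inf_le_left, hj, ?_⟩
  refine exists_aug_eq F (inf_le_right : V ⊓ 𝒰 j ≤ 𝒰 j) _ ?_
  rw [d_res, hs]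
  exact res_zero _ _

/-- **the Čech complex of sheaves is a resolution** -/
theorem main (h𝒰 : ⨆ i, 𝒰 i = ⊤) :
    Mono (CechOX.cechShAug 𝒰 F) ∧
    CechOX.cechShAug 𝒰 F ≫ ((CechOX.cechSh 𝒰).obj F).d 0 1 = 0 ∧
    (∀ (G : X.Modules) (g : G ⟶ ((CechOX.cechSh 𝒰).obj F).X 0), g ≫ ((CechOX.cechSh 𝒰).obj F).d 0 1 = 0 →
      ∃! g' : G ⟶ F, g' ≫ CechOX.cechShAug 𝒰 F = g) ∧
    ∀ p : ℕ, IsZero (((CechOX.cechSh 𝒰).obj F).homology (p + 1)) := by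
  have := mono_aug F h𝒰
  refine ⟨inferInstance, aug_d F, ?_, fun p => isZero_homology_succ F h𝒰 p⟩
  intro G g hg
  refine ⟨(exact_aug F h𝒰).lift g hg, (exact_aug F h𝒰).lift_f g hg, ?_⟩
  intro g' hg'
  rw [← cancel_mono (CechOX.cechShAug 𝒰 F), hg']
  exact ((exact_aug F h𝒰).lift_f g hg).symm

end Groth.Agent.Lib.Helper23.CechRes
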