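import Mathlib
import Groth.Prelude.Def_CechOX
import Groth.Prelude.Def_DCoh2
import Groth.Agent.Lib.Helper23.CechRes.Main
/-!
# Helper23 — CechRes.InD: the Čech complex of sheaves is isomorphic to `F[0]` in `D(O_X)`
-/

set_option autoImplicit false
set_option maxHeartbeats 400000
set_option linter.style.haveILetI false
universe u
open CategoryTheory CategoryTheory.Limits AlgebraicGeometry Opposite TopologicalSpace

attribute [local instance] HasDerivedCategory.standard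

namespace Groth.Agent.Lib.Helper23.CechRes.InD

variable {X : Scheme.{u}} {ι : Type u} (𝒰 : ι → X.Opens) (F : X.Modules)

/-- `F` is the kernel of the first differential of the Čech complex of sheaves -/
theorem nonempty_cycles_iso (h𝒰 : ⨆ i, 𝒰 i = ⊤) :
    Nonempty (((CechOX.cechSh 𝒰).obj F).cycles 0 ≅ F) := by
  obtain ⟨hmono, haug, huniv, -⟩ := Groth.Agent.Lib.Helper23.CechRes.main F h𝒰
  let K := (CechOX.cechSh 𝒰).obj F
  have hlim : IsLimit (KernelFork.ofι (CechOX.cechShAug 𝒰 F) haug) :=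
    KernelFork.IsLimit.ofι _ _ (fun {G} g hg => (huniv G g hg).choose)
      (fun {G} g hg => (huniv G g hg).choose_spec.1)
      (fun {G} g hg m hm => (huniv G g hg).choose_spec.2 m hm)
  exact ⟨IsLimit.conePointUniqueUpToIso (K.cyclesIsKernel 0 1 (by simp)) hlim⟩

theorem isLE_cechShZ (h𝒰 : ⨆ i, 𝒰 i = ⊤) : (CechOX.cechShZ 𝒰 F).IsLE 0 := by
  obtain ⟨-, -, -, hvan⟩ := Groth.Agent.Lib.Helper23.CechRes.main F h𝒰
  rw [CochainComplex.isLE_iff]
  intro i hi
  obtain ⟨q, rfl⟩ := Int.eq_ofNat_of_zero_le hi.le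
  obtain ⟨q', rfl⟩ : ∃ q', q = q' + 1 := ⟨q - 1, by omega⟩
  rw [HomologicalComplex.extend_exactAt_iff ((CechOX.cechSh 𝒰).obj F)
    ComplexShape.embeddingUpNat (j := q' + 1) (by simp),
    HomologicalComplex.exactAt_iff_isZero_homology]
  exact hvan q'

theorem nonempty_inD_iso_toD (h𝒰 : ⨆ i, 𝒰 i = ⊤) :
    Nonempty (DCoh.inD X F ≅ DCoh.toD X (CechOX.cechShZ 𝒰 F)) := by
  let K := (CechOX.cechSh 𝒰).obj F
  let Kz := CechOX.cechShZ 𝒰 F
  let E : DCoh.D X := DerivedCategory.Q.obj Kz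
  haveI : Kz.IsStrictlyGE 0 := by dsimp [Kz]; infer_instance
  haveI : Kz.IsGE 0 := inferInstance
  haveI : Kz.IsLE 0 := isLE_cechShZ 𝒰 F h𝒰
  haveI : E.IsGE 0 := by dsimp [E]; infer_instance
  haveI : E.IsLE 0 := by dsimp [E]; infer_instance
  obtain ⟨A, ⟨e⟩⟩ := DerivedCategory.exists_iso_singleFunctor_obj_of_isGE_of_isLE E 0
  obtain ⟨ec⟩ := nonempty_cycles_iso 𝒰 F h𝒰
  have eA : A ≅ F :=
    ((DerivedCategory.singleFunctorCompHomologyFunctorIso X.Modules 0).app A).symm ≪≫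
      (DerivedCategory.homologyFunctor X.Modules 0).mapIso e.symm ≪≫
      (DerivedCategory.homologyFunctorFactors X.Modules 0).app Kz ≪≫
      K.extendHomologyIso ComplexShape.embeddingUpNat (j := 0) (j' := 0) (by simp) ≪≫
      K.isoHomologyπ₀.symm ≪≫ ec
  exact ⟨(DerivedCategory.singleFunctor X.Modules 0).mapIso eA.symm ≪≫ e.symm⟩

end Groth.Agent.Lib.Helper23.CechRes.InD
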