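import Mathlib
import Groth.Prelude.Def_CechOX
import Groth.Prelude.Def_DCoh2
import Groth.Agent.Lib.Helper23.CechRes.QC2
import Groth.Agent.Lib.Helper23.CechRes.Acyc
import Groth.Agent.Lib.Helper23.CechRes.InD
import Groth.Agent.Lib.Helper23.BddAcyc.Unit
import Groth.Agent.Lib.Helper26.KInjAdjH
import Groth.Agent.Lib.Helper6.RDBridge
import Groth.Agent.Lib.Helper8.SheafModGroth
/-!
# Helper23 — CechRes.Rpush: the relative Čech complex computes `Rf_* F`
-/

set_option autoImplicit false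
set_option maxHeartbeats 800000
set_option linter.style.haveILetI false
universe u
open CategoryTheory CategoryTheory.Limits AlgebraicGeometry Opposite TopologicalSpace

attribute [local instance] HasDerivedCategory.standard

namespace Groth.Agent.Lib.Helper23.CechRes.Rp

open Groth.Agent.Lib.Helper26.FDim2 Groth.Agent.Lib.Helper26.FDim7

theorem quasiSeparatedSpace_of_affineDiagonal (X : Scheme.{u})
    [IsAffineHom (pullback.diagonal (terminal.from X))] : QuasiSeparatedSpace X := by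
  rw [quasiSeparatedSpace_iff_quasiSeparated]
  exact ⟨inferInstance⟩

variable {X S : Scheme.{u}} (f : X ⟶ S) {ι : Type u} (𝒰 : ι → X.Opens) (F : X.Modules)

theorem isQCoh_relCech_X [CompactSpace X] [IsAffineHom (pullback.diagonal (terminal.from X))]
    [IsAffineHom (pullback.diagonal (terminal.from S))] [Finite ι]
    (h𝒰 : ∀ i, IsAffineOpen (𝒰 i)) [Coh.IsQCoh F] (p : ℕ) :
    Coh.IsQCoh (((CechOX.relCech 𝒰 f).obj F).X p) := by
  haveI := quasiSeparatedSpace_of_affineDiagonal X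
  haveI := quasiSeparatedSpace_of_affineDiagonal S
  haveI : QuasiCompact f := inferInstance
  haveI : QuasiSeparated f := inferInstance
  have h : (((CechOX.cechSh 𝒰).obj F).X p).IsQuasicoherent := QC2.isQCoh_cechSh_X 𝒰 F p h𝒰
  show Coh.IsQCoh ((Scheme.Modules.pushforward f).obj (((CechOX.cechSh 𝒰).obj F).X p))
  exact Groth.Agent.Lib.Helper28.QCohLoc.isQuasicoherent_pushforward f _

theorem nonempty_iso [IsAffineHom (pullback.diagonal (terminal.from X))]
    [IsAffineHom (pullback.diagonal (terminal.from S))] [Finite ι]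
    (h𝒰 : ∀ i, IsAffineOpen (𝒰 i)) (hcov : ⨆ i, 𝒰 i = ⊤) [Coh.IsQCoh F] [DCoh.HasRpush f] :
    Nonempty (DCoh.toD S (CechOX.relCechZ 𝒰 f F) ≅ (DCoh.Rpush f).obj (DCoh.inD X F)) := by
  haveI : EnoughInjectives X.Modules :=
    Groth.Agent.Lib.Helper8.SheafModGroth.enoughInjectives _ X.ringCatSheaf
  let P := Scheme.Modules.pushforward f
  haveI : PreservesFiniteLimits P := by
    haveI : P.IsRightAdjoint := (Scheme.Modules.pullbackPushforwardAdjunction f).isRightAdjoint
    infer_instance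
  let K := (CechOX.cechSh 𝒰).obj F
  let Kz := CechOX.cechShZ 𝒰 F
  let e1 : (P.mapHomologicalComplex (ComplexShape.up ℤ)).obj Kz ≅ CechOX.relCechZ 𝒰 f F :=
    Groth.Agent.Lib.Helper6.RDBridge.mapExtendIso P ComplexShape.embeddingUpNat K
  let q := HomotopyCategory.quotient X.Modules (ComplexShape.up ℤ)
  let e2 : (DCoh.pushKh f).obj (q.obj Kz) ≅
      DerivedCategory.Q.obj ((P.mapHomologicalComplex (ComplexShape.up ℤ)).obj Kz) :=
    DerivedCategory.Qh.mapIso ((P.mapHomotopyCategoryFactors (ComplexShape.up ℤ)).app Kz) ≪≫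
      (DerivedCategory.quotientCompQhIso S.Modules).app _
  haveI : Kz.IsStrictlyGE 0 := by dsimp [Kz]; infer_instance
  have hK : ∀ m, DimLE P 0 (Kz.X m) := by
    intro m
    by_cases hm : ∃ n : ℕ, ComplexShape.embeddingUpNat.f n = m
    · obtain ⟨n, rfl⟩ := hm
      exact DimLE.of_iso (K.extendXIso ComplexShape.embeddingUpNat rfl).symm
        (Acyc.dimLE_cechSh_X f 𝒰 F n h𝒰)
    · exact dimLE_zero_obj 0 _ (K.isZero_extend_X _ m (fun n hn => hm ⟨n, hn⟩))
  haveI : (G P).HasRightDerivedFunctor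
      (HomotopyCategory.quasiIso X.Modules (ComplexShape.up ℤ)) := ‹DCoh.HasRpush f›
  haveI := Groth.Agent.Lib.Helper23.BddAcyc.isIso_unit_of_bddBelow P
    (Groth.Agent.Lib.Helper26.KInjAdjH.hK (B := X.Modules)) Kz 0 hK
  let η := (DCoh.pushKh f).totalRightDerivedUnit DerivedCategory.Qh
    (HomotopyCategory.quasiIso X.Modules (ComplexShape.up ℤ))
  haveI : IsIso (η.app (q.obj Kz)) := ‹_›
  let e3 : (DCoh.pushKh f).obj (q.obj Kz) ≅ (DCoh.Rpush f).obj (DerivedCategory.Qh.obj (q.obj Kz)) :=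
    asIso (η.app (q.obj Kz))
  let e4 : DerivedCategory.Qh.obj (q.obj Kz) ≅ DerivedCategory.Q.obj Kz :=
    (DerivedCategory.quotientCompQhIso X.Modules).app Kz
  obtain ⟨e5⟩ := InD.nonempty_inD_iso_toD 𝒰 F hcov
  exact ⟨DerivedCategory.Q.mapIso e1.symm ≪≫ e2.symm ≪≫ e3 ≪≫
    (DCoh.Rpush f).mapIso (e4 ≪≫ e5.symm)⟩

end Groth.Agent.Lib.Helper23.CechRes.Rp
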